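import Mathlib

set_option autoImplicit false
universe u

open MvPolynomial

namespace Groth.Agent.LeadSpanLib

variable {σ : Type*} {k : Type u} [Field k]

theorem support_mem_of_span (S : Set (σ →₀ ℕ)) {f : MvPolynomial σ k}
    (hf : f ∈ Submodule.span k ((fun e => monomial e (1 : k)) '' S)) : ∀ e ∈ f.support, e ∈ S := by
  classical
  induction hf using Submodule.span_induction with
  | mem x hx =>
    obtain ⟨e, he, rfl⟩ := hx
    intro e' he'
    rw [MvPolynomial.support_monomial, if_neg one_ne_zero, Finset.mem_singleton] at he'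
    exact he' ▸ he
  | zero => simp
  | add x y _ _ hx hy =>
    intro e he
    rcases Finset.mem_union.mp (MvPolynomial.support_add he) with h | h
    · exact hx e h
    · exact hy e h
  | smul c x _ hx =>
    intro e he
    exact hx e (MvPolynomial.support_smul he)

theorem eq_of_lead (mo : MonomialOrder σ) (S : Set (σ →₀ ℕ)) (U : Submodule k (MvPolynomial σ k))
    (hU : U ≤ Submodule.span k ((fun e => monomial e (1 : k)) '' S))
    (hlead : ∀ e ∈ S, ∃ p ∈ U, p ≠ 0 ∧ mo.degree p = e) :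
    U = Submodule.span k ((fun e => monomial e (1 : k)) '' S) := by
  classical
  refine le_antisymm hU (Submodule.span_le.mpr ?_)
  rintro _ ⟨e, he, rfl⟩
  suffices H : ∀ x : mo.syn, ∀ e, mo.toSyn e = x → e ∈ S → monomial e (1 : k) ∈ U from H _ e rfl he
  intro x
  induction x using WellFoundedLT.induction with
  | ind x ih =>
    intro e hx he
    obtain ⟨p, hp, hp0, hpd⟩ := hlead e he
    have hsupp := support_mem_of_span S (hU hp)
    have hes : e ∈ p.support := hpd ▸ (mo.degree_mem_support hp0)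
    have hsum : monomial e (coeff e p) = p - ∑ d ∈ p.support.erase e, monomial d (coeff d p) := by
      conv_rhs => arg 1; rw [p.as_sum, ← Finset.add_sum_erase _ _ hes]
      rw [add_sub_cancel_right]
    have hmem : monomial e (coeff e p) ∈ U := by
      rw [hsum]
      refine U.sub_mem hp (U.sum_mem fun d hd => ?_)
      obtain ⟨hne, hd⟩ := Finset.mem_erase.mp hd
      have hlt : mo.toSyn d < x := by
        refine lt_of_le_of_ne ?_ ?_
        · rw [← hx, ← hpd]; exact mo.le_degree hd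
        · rw [← hx]; exact fun h => hne (mo.toSyn.injective h)
      have h := U.smul_mem (coeff d p) (ih _ hlt d rfl (hsupp d hd))
      rwa [MvPolynomial.smul_monomial, smul_eq_mul, mul_one] at h
    have h := U.smul_mem (coeff e p)⁻¹ hmem
    rwa [MvPolynomial.smul_monomial, smul_eq_mul, inv_mul_cancel₀ (mem_support_iff.mp hes)] at h

def Tgt (a n : ℕ) : Set (Fin 4 →₀ ℕ) := {e | e 2 + e 3 = a ∧ e 0 + e 1 = n + e 2}

theorem span_tgt (a n : ℕ) :
    Submodule.span k {f : MvPolynomial (Fin 4) k | ∃ e : Fin 4 →₀ ℕ, e 2 + e 3 = a ∧ e 0 + e 1 = n + e 2 ∧ f = monomial e 1} =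
      Submodule.span k ((fun e => monomial e (1 : k)) '' Tgt a n) := by
  congr 1
  ext f
  constructor
  · rintro ⟨e, h1, h2, rfl⟩; exact ⟨e, ⟨h1, h2⟩, rfl⟩
  · rintro ⟨e, ⟨h1, h2⟩, rfl⟩; exact ⟨e, h1, h2, rfl⟩

theorem mul_eq_target
    (mo : MonomialOrder (Fin 4)) (a b c : ℕ) (W : Submodule k (MvPolynomial (Fin 4) k))
    (hW : W ≤ Submodule.span k ((fun e => monomial e (1 : k)) '' Tgt a b))
    (h₁ : ∀ i j : ℕ, i ≤ a → j * (c + 1) < b + i → ∃ w ∈ W, w ≠ 0 ∧
      mo.degree w = Finsupp.single 0 (b + i - j * (c + 1)) + Finsupp.single 1 (j * (c + 1)) +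
        Finsupp.single 2 i + Finsupp.single 3 (a - i))
    (h₂ : ∀ i : ℕ, i ≤ a → ∃ w ∈ W, w ≠ 0 ∧
      mo.degree w = Finsupp.single 1 (b + i) + Finsupp.single 2 i + Finsupp.single 3 (a - i)) :
    W * Submodule.span k ((fun e => monomial e (1 : k)) '' Tgt 0 c) =
      Submodule.span k ((fun e => monomial e (1 : k)) '' Tgt a (b + c)) := by
  classical
  refine eq_of_lead mo _ _ (le_trans (mul_le_mul' hW le_rfl) ?_) ?_
  · rw [Submodule.span_mul_span]
    refine Submodule.span_mono ?_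
    rintro _ ⟨_, ⟨e, ⟨h1, h2⟩, rfl⟩, _, ⟨t, ⟨h3, h4⟩, rfl⟩, rfl⟩
    refine ⟨e + t, ⟨?_, ?_⟩, by simp [MvPolynomial.monomial_mul]⟩
    · simp only [Finsupp.add_apply]; omega
    · simp only [Finsupp.add_apply]; omega
  rintro e ⟨h23, h01⟩
  obtain ⟨w, hw, hw0, t0, t1, hdeg, ht⟩ : ∃ w ∈ W, w ≠ 0 ∧ ∃ t0 t1 : ℕ,
      e = mo.degree w + (Finsupp.single 0 t0 + Finsupp.single 1 t1) ∧ t0 + t1 = c := by
    rcases lt_or_ge (e 1) (b + e 2) with hlt | hge
    · have hj : e 1 / (c + 1) * (c + 1) ≤ e 1 := Nat.div_mul_le_self _ _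
      obtain ⟨w, hw, hw0, hd⟩ := h₁ (e 2) (e 1 / (c + 1)) (by omega) (by omega)
      have hm : e 1 % (c + 1) + e 1 / (c + 1) * (c + 1) = e 1 := Nat.mod_add_div' _ _
      have hlt' : e 1 % (c + 1) < c + 1 := Nat.mod_lt (e 1) (Nat.succ_pos c)
      refine ⟨w, hw, hw0, c - e 1 % (c + 1), e 1 % (c + 1), ?_, by omega⟩
      rw [hd]; ext i; fin_cases i <;> simp <;> omega
    · obtain ⟨w, hw, hw0, hd⟩ := h₂ (e 2) (by omega)
      refine ⟨w, hw, hw0, e 0, e 1 - (b + e 2), ?_, by omega⟩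
      rw [hd]; ext i; fin_cases i <;> simp <;> omega
  set t : Fin 4 →₀ ℕ := Finsupp.single 0 t0 + Finsupp.single 1 t1 with htdef
  refine ⟨w * monomial t 1, Submodule.mul_mem_mul hw (Submodule.subset_span ⟨t, ⟨?_, ?_⟩, rfl⟩), ?_, ?_⟩
  · simp [htdef]
  · simp [htdef]; omega
  · exact mul_ne_zero hw0 (by simp [MvPolynomial.monomial_eq_zero])
  · rw [mo.degree_mul hw0 (by simp [MvPolynomial.monomial_eq_zero]), mo.degree_monomial, if_neg one_ne_zero, ← hdeg]

end Groth.Agent.LeadSpanLib
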